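import Cfsg.Agent.Lib.Geometric.PauliMax.Extend

/-!
The normaliser of a Pauli system is generated by scalars, Pauli elements and transvection elements.
-/

set_option autoImplicit false

namespace CfsgLib.Geometric.PauliQ

open Cfsg.Geo CfsgLib.Geometric.PauliMax

variable {V : Type} [AddCommGroup V] [Module (ZMod 2) V] [Fintype V] {ι : Type} [Fintype ι] [DecidableEq ι]
  {F : Type*} [Field F]

theorem norm_le_of_gens [Nonempty ι] (S : Pauli V ι F) (h2 : (2 : F) ≠ 0) {i : F} (hi : i * i = -1)
    {H : Subgroup (GL ι F)} (hgl : ∀ v, S.gl v ∈ H) (ht : ∀ v, S.tgl h2 hi v ∈ H)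
    (hsc : scalars ι F ≤ H) : S.norm ≤ H := by
  classical
  intro g hg
  induction hn : (Finset.univ.filter fun v => S.sP g v ≠ v).card using Nat.strong_induction_on
    generalizing g with
  | _ n IH =>
  by_cases hfix : ∀ v, S.sP g v = v
  · obtain ⟨u, c, hu⟩ := S.exists_of_fixed h2 hg hfix
    have hc : c ≠ 0 := fun h => Units.ne_zero g (by rw [hu, h, zero_smul])
    let k : GL ι F := ⟨c • 1, c⁻¹ • 1,
      by rw [smul_mul_assoc, one_mul, smul_smul, mul_inv_cancel₀ hc, one_smul],
      by rw [smul_mul_assoc, one_mul, smul_smul, inv_mul_cancel₀ hc, one_smul]⟩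
    have e : g = k * S.gl u := Units.ext (by
      rw [hu, Units.val_mul, Pauli.coe_gl]
      show c • S.P u = (c • (1 : Matrix ι ι F)) * S.P u
      rw [smul_mul_assoc, one_mul])
    rw [e]
    exact mul_mem (hsc ((mem_scalars_iff k).2 ⟨Units.mk0 c hc, rfl⟩)) (hgl u)
  push Not at hfix
  obtain ⟨v, hv⟩ := hfix
  set w := S.sP g v with hw
  have hwv : v ≠ w := fun h => hv h.symm
  -- it suffices to fix more labels
  have step : ∀ t ∈ H, t ∈ S.norm → S.sP t w = v → (∀ k, S.sP g k = k → S.sP t k = k) → g ∈ H := by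
    intro t htH htn htw htk
    have hlt : (Finset.univ.filter fun x => S.sP (t * g) x ≠ x).card < n := by
      rw [← hn]
      refine Finset.card_lt_card ((Finset.ssubset_iff_of_subset ?_).2 ⟨v, ?_, ?_⟩)
      · intro x hx
        simp only [Finset.mem_filter, Finset.mem_univ, true_and] at hx ⊢
        intro hgx
        exact hx (by rw [(S.act_mul htn hg x).1, hgx, htk x hgx])
      · simpa using hv
      · simp only [Finset.mem_filter, Finset.mem_univ, true_and, not_not]
        rw [(S.act_mul htn hg v).1, ← hw, htw]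
    exact (H.mul_mem_cancel_left htH).1 (IH _ hlt (mul_mem htn hg) rfl)
  have hB : ∀ k, S.sP g k = k → S.B k w = S.B k v := by
    intro k hk
    have := S.act_B h2 hg k v
    rwa [hk] at this
  rcases two_cases (S.B v w) with h0 | h1
  swap
  · obtain ⟨htn, hts⟩ := S.tgl_mem_norm h2 hi (v + w)
    refine step _ (ht (v + w)) htn ?_ fun k hk => ?_
    · rw [hts, map_add, S.alt, add_zero, S.B_swap, h1, one_smul, add_comm v w, ← add_assoc,
        label_add_self, zero_add]
    · rw [hts, map_add, hB k hk]
      rcases two_cases (S.B k v) with e | e <;> rw [e] <;> simp [show (1 + 1 : ZMod 2) = 0 from by decide]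
  -- an intermediate label
  let K : Submodule (ZMod 2) V := Submodule.span (ZMod 2) {k | S.sP g k = k}
  have hK : ∀ k ∈ K, S.sP g k = k := by
    intro k hk
    induction hk using Submodule.span_induction with
    | mem x hx => exact hx
    | zero => exact (S.act_unique hg (c := 1) (by rw [S.zero]; simp)).1
    | add a b _ _ ha hb => rw [(S.act_add hg a b).1, ha, hb]
    | smul c a _ ha =>
      rcases two_cases c with rfl | rfl
      · rw [zero_smul]; exact (S.act_unique hg (c := 1) (by rw [S.zero]; simp)).1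
      · rw [one_smul, ha]
  have hnot : v ∉ K ⊔ Submodule.span (ZMod 2) {v + w} := by
    intro h
    obtain ⟨k, hk, x, hx, e⟩ := Submodule.mem_sup.1 h
    obtain ⟨c, rfl⟩ := Submodule.mem_span_singleton.1 hx
    rcases two_cases c with rfl | rfl
    · rw [zero_smul, add_zero] at e
      exact hv (by rw [hw, ← e]; exact hK k hk)
    · rw [one_smul, ← add_assoc, add_right_comm, add_eq_right, ← sub_eq_zero] at e
      have hkw : k = w := by
        have h' : k + w = 0 := by
          rw [← e]; abel
        rw [add_eq_zero_iff_eq_neg] at h'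
        rw [h', neg_eq_iff_add_eq_zero]
        exact label_add_self w
      have h1 : S.sP g w = S.sP g v := by rw [← hkw, hK k hk, hkw, hw]
      have h2' := congrArg (S.sP g⁻¹) h1
      rw [← (S.act_mul (inv_mem hg) hg _).1, ← (S.act_mul (inv_mem hg) hg _).1, inv_mul_cancel] at h2'
      have h3 : ∀ x, S.sP (1 : GL ι F) x = x := fun x =>
        (S.act_unique (one_mem S.norm) (w := x) (c := 1) (by simp)).1
      rw [h3, h3] at h2'
      exact hwv h2'.symm
  obtain ⟨f, hf1, hf2⟩ := Submodule.exists_le_ker_of_notMem hnot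
  have fv : f v = 1 := (two_cases _).resolve_left hf1
  have fw : f w = 1 := by
    have h := LinearMap.mem_ker.1 (hf2 (Submodule.mem_sup_right (Submodule.mem_span_singleton_self _)))
    rw [map_add, fv] at h
    revert h; generalize f w = c; revert c; decide
  obtain ⟨z₀, hz₀⟩ := S.B_surj f
  set z := v + z₀ with hz
  have hkz : ∀ k, S.sP g k = k → S.B k z = S.B k v := by
    intro k hk
    rw [hz, map_add, S.B_swap k z₀, hz₀,
      LinearMap.mem_ker.1 (hf2 (Submodule.mem_sup_left (Submodule.subset_span hk))), add_zero]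
  have hvz : S.B v z = 1 := by rw [hz, map_add, S.alt, zero_add, S.B_swap, hz₀, fv]
  have hwz : S.B w z = 1 := by rw [hz, map_add, S.B_swap w v, h0, zero_add, S.B_swap, hz₀, fw]
  obtain ⟨a1, a2⟩ := S.tgl_mem_norm h2 hi (w + z)
  obtain ⟨b1, b2⟩ := S.tgl_mem_norm h2 hi (z + v)
  refine step _ (mul_mem (ht (z + v)) (ht (w + z))) (mul_mem b1 a1) ?_ fun k hk => ?_
  · rw [(S.act_mul b1 a1 w).1, a2, map_add, S.alt, zero_add, hwz, one_smul, ← add_assoc, label_add_self,
      zero_add, b2, map_add, S.alt, zero_add, S.B_swap, hvz, one_smul, ← add_assoc, label_add_self,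
      zero_add]
  · have e : ∀ a b : V, S.B k a = S.B k b → S.B k (a + b) = 0 := fun a b h => by
      rw [map_add, h]; exact CharTwo.add_self_eq_zero _
    rw [(S.act_mul b1 a1 k).1, a2, e w z (by rw [hB k hk, hkz k hk]), zero_smul, add_zero, b2,
      e z v (hkz k hk), zero_smul, add_zero]

end CfsgLib.Geometric.PauliQ
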