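import Cfsg.Agent.Lib.Geometric.PauliQ.Involution

/-!
If all centralisers of Pauli elements lie in `N`, then `N` is the whole group.
-/

set_option autoImplicit false

namespace CfsgLib.Geometric.PauliQ

open CfsgLib.Geometric.PauliMax (V6 two_torsion neg_eq_self add_eq_zero_iff' V3 no_trilinear exists_radical)

open Module CfsgLib.Involutions

namespace Data

universe u

variable {G : Type u} [Group G] {N : Subgroup G} (D : Data G N)

theorem s_eq_of_mul_eq_x {z t : G} (hz : z ∈ N) (ht : t ∈ N) (hz2 : z * z = 1) {b : V6}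
    (h : z * t = D.x b) (v : V6) : D.s t v = D.s z v := by
  have e : t = z * D.x b := by rw [← h, ← mul_assoc, hz2, one_mul]
  rw [e, D.s_mul hz (D.x_mem b), D.s_x]

theorem not_moves_x (a : V6) : ¬ D.Moves (D.x a) := fun ⟨v, hv⟩ => hv (D.s_x a v)

/-- No conjugate of a Pauli element is an element of `N` moving the space. -/
theorem conj_x_ne (hloc : D.Local) {h : G} {a : V6} (ha : a ≠ 0) {y : G} (hy : y ∈ N) (hym : D.Moves y) :
    h * D.x a * h⁻¹ ≠ y := by
  intro e
  have hh : h ∈ N := D.fusion hloc ha (e ▸ hy)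
  rw [D.conj h hh] at e
  exact D.not_moves_x _ (e ▸ hym)

theorem involution_le [Finite G] (hloc : D.Local) {z : G} (hz : z ∈ N) (hz2 : z * z = 1)
    (hzm : D.Moves z) {g : G} (hg : Commute g z) : g ∈ N := by
  by_cases hbad : D.Bad z
  swap
  · exact D.good_le hloc hz hz2 hbad hg
  -- a good involution commuting with `z`
  have hF := D.bad_fix hz hz2 hbad hzm
  have hU := D.bad_range hz hz2 hbad hzm
  obtain ⟨v, hvF, hvU, hχ⟩ : ∃ v, v ∈ D.fix hz ∧ v ∉ LinearMap.range (D.η hz) ∧ D.σ z v = 0 := by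
    let χ : D.fix hz →ₗ[ZMod 2] ZMod 2 := AddMonoidHom.toZModLinearMap 2 (AddMonoidHom.mk'
      (fun v : D.fix hz => D.σ z v)
      fun v w => D.σ_add z hz _ _ ((D.mem_fix hz).1 v.2) ((D.mem_fix hz).1 w.2))
    have h1 := LinearMap.finrank_range_add_finrank_ker χ
    have h2 : finrank (ZMod 2) (LinearMap.range χ) ≤ 1 :=
      (Submodule.finrank_le _).trans_eq (Module.finrank_self _)
    rw [hF] at h1
    by_contra hc
    push Not at hc
    have hle : (LinearMap.ker χ).map (D.fix hz).subtype ≤ LinearMap.range (D.η hz) := by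
      rintro _ ⟨v, hv, rfl⟩
      by_contra hvU
      exact hc v v.2 hvU hv
    have h3 := Submodule.finrank_mono hle
    rw [Submodule.finrank_map_subtype_eq, hU] at h3
    omega
  obtain ⟨u, huF, hu⟩ : ∃ u ∈ D.fix hz, D.B u v = 1 := by
    by_contra hc
    push Not at hc
    apply hvU
    rw [D.range_eq_perp_fix hz hz2]
    intro w hw
    exact (zmod_two_cases (D.B w v)).resolve_right (hc w hw)
  -- the range is totally singular
  have hUq : ∀ x ∈ LinearMap.range (D.η hz), D.q x = 0 ∧ D.σ z x = 0 ∧ x ∈ D.fix hz ∧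
      ∀ f ∈ D.fix hz, D.B x f = 0 := by
    rintro _ ⟨a, rfl⟩
    refine ⟨?_, ?_, D.range_le_fix hz hz2 ⟨a, rfl⟩, fun f hf => D.B_η_eq_zero hz hz2 hf⟩
    · rw [η_apply, D.q_add, D.q_s hz, CharTwo.add_self_eq_zero, zero_add, D.sk, hbad]
    · rw [η_apply, add_comm, D.σ_sq z hz hz2, hbad]
  obtain ⟨u₀, hu₀U, hu₀⟩ : ∃ u₀ ∈ LinearMap.range (D.η hz), u₀ ≠ 0 := by
    obtain ⟨a, ha⟩ := hzm
    exact ⟨D.η hz a, ⟨a, rfl⟩, fun h => ha ((add_eq_zero_iff' _ _).1 h)⟩
  obtain ⟨hqu₀, hσu₀, hu₀F, hu₀perp⟩ := hUq u₀ hu₀U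
  have hq1 : ∀ x ∈ D.fix hz, x ∉ LinearMap.range (D.η hz) → D.q x = 1 := by
    intro x hxF hxU
    refine (zmod_two_cases _).resolve_left fun hx0 => ?_
    have hx : x ≠ 0 := fun h => hxU (h ▸ Submodule.zero_mem _)
    have h3 := D.noTS (LinearMap.range (D.η hz) ⊔ Submodule.span (ZMod 2) {x}) (fun w hw => by
      obtain ⟨a, ha, c, hc, rfl⟩ := Submodule.mem_sup.1 hw
      obtain ⟨k, rfl⟩ := Submodule.mem_span_singleton.1 hc
      obtain ⟨h1, -, -, h4⟩ := hUq a ha
      rcases zmod_two_cases k with rfl | rfl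
      · rw [zero_smul, add_zero]; exact h1
      · rw [one_smul, D.q_add, h1, hx0, h4 x hxF, add_zero, add_zero])
    have hdisj : LinearMap.range (D.η hz) ⊓ Submodule.span (ZMod 2) {x} = ⊥ := by
      rw [← disjoint_iff, Submodule.disjoint_span_singleton' hx]
      exact hxU
    have h5 := Submodule.finrank_sup_add_finrank_inf_eq (LinearMap.range (D.η hz))
      (Submodule.span (ZMod 2) {x})
    rw [hdisj, finrank_bot, hU, finrank_span_singleton hx] at h5
    omega
  set v' := v + u₀ with hv'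
  have hv'F : v' ∈ D.fix hz := (D.fix hz).add_mem hvF hu₀F
  have hv'U : v' ∉ LinearMap.range (D.η hz) := fun h => hvU (by
    simpa [hv'] using Submodule.sub_mem _ h hu₀U)
  have hvu₀ : D.B v u₀ = 0 := (D.sk v u₀).trans (hu₀perp v hvF)
  have hvv' : D.B v v' = 0 := by rw [hv', map_add, D.alt, hvu₀, add_zero]
  have hu' : D.B u v' = 1 := by
    rw [hv', map_add, hu, (D.sk u u₀).trans (hu₀perp u huF), add_zero]
  have hσv' : D.σ z v' = 0 := by
    rw [hv', D.σ_add z hz _ _ ((D.mem_fix hz).1 hvF) ((D.mem_fix hz).1 hu₀F), hχ, hσu₀, add_zero]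
  obtain ⟨t, htN, ht2, htz, hts⟩ :=
    D.transv v v' u (hq1 v hvF hvU) (hq1 v' hv'F hv'U) hvv' hu hu' z hz ((D.mem_fix hz).1 hvF)
      ((D.mem_fix hz).1 hv'F) ((D.mem_fix hz).1 huF) hχ hσv'
  have hv0 : v ≠ 0 := fun h => hvU (h ▸ Submodule.zero_mem _)
  have htu : D.s t u = u + v + v' := by rw [hts, hu, hu', one_smul, one_smul]
  have htgood : ¬ D.Bad t := fun h => by
    obtain ⟨w, hw⟩ := D.nondeg' hu₀
    have h' := h w
    rw [hts, map_add, map_add, D.alt, zero_add, map_smul, map_smul, smul_eq_mul, smul_eq_mul, hv',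
      map_add] at h'
    rw [D.sk] at hw
    rw [hw] at h'
    revert h'
    generalize D.B w v = c; revert c; decide
  have htm : D.Moves t := ⟨u, fun h => hu₀ (by
    have h' := htu ▸ h
    rw [add_assoc, add_eq_left, hv', ← add_assoc, two_torsion, zero_add] at h'
    exact h')⟩
  have htv : D.s t v = v := by rw [hts, D.alt, hvv', zero_smul, zero_smul, add_zero, add_zero]
  set r := D.x v with hr
  have hzr : Commute z r := (D.commute_x_iff hz).2 ((D.mem_fix hz).1 hvF)
  have ht1 : t ≠ 1 := fun h => by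
    obtain ⟨w, hw⟩ := htm
    exact hw (by rw [h, D.s_one])
  have hto : orderOf t = 2 := orderOf_eq_two_iff.2 ⟨ht2, ht1⟩
  have hro : orderOf r = 2 := D.orderOf_x hv0
  set y := g * t * g⁻¹ with hy
  have hyo : orderOf y = 2 := (orderOf_conj g t).trans hto
  have hyz : Commute y z := (hg.mul_left htz).mul_left hg.inv_left
  -- `y` lies in `N`
  have hyN : y ∈ N := by
    have hnc : ¬ IsConj r y := by
      intro h
      obtain ⟨d, hd⟩ := isConj_iff.1 h
      refine D.conj_x_ne hloc (h := g⁻¹ * d) hv0 htN htm ?_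
      calc g⁻¹ * d * D.x v * (g⁻¹ * d)⁻¹ = g⁻¹ * (d * r * d⁻¹) * g := by rw [hr]; group
        _ = t := by rw [hd, hy]; group
    obtain ⟨w, hwo, hwr, hwy, hwp⟩ := exists_commuting_involution hro hyo hnc
    have hwN : w ∈ N := hloc v hv0 w hwr
    have hw2 := mul_self_eq_one hwo
    have hwz : Commute w z := by
      obtain ⟨j, rfl⟩ := Subgroup.mem_zpowers_iff.1 hwp
      exact (hzr.symm.mul_left hyz).zpow_left j
    have hwne : w ≠ z := by
      intro hwe
      obtain ⟨j, hj⟩ := Subgroup.mem_zpowers_iff.1 hwp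
      have hpz : ∀ i : ℤ, Commute ((r * y) ^ i) z := fun i => (hzr.symm.mul_left hyz).zpow_left i
      rcases Int.even_or_odd' j with ⟨i, rfl | rfl⟩
      · have e : (r * y) ^ i * r * ((r * y) ^ i)⁻¹ = z * r := by
          rw [conj_left_by_zpow hro hyo, hj, hwe]
        refine D.conj_x_ne hloc hv0 (mul_mem hz (D.x_mem v)) ?_ e
        obtain ⟨a, ha⟩ := hzm
        exact ⟨a, by rw [D.s_mul hz (D.x_mem v), D.s_x]; exact ha⟩
      · set h := (r * y) ^ (i + 1) * g with hh
        have e : h * t * h⁻¹ = z * r := by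
          calc h * t * h⁻¹ = (r * y) ^ (i + 1) * y * ((r * y) ^ (i + 1))⁻¹ := by rw [hh, hy]; group
            _ = (r * y) ^ (i + 1) * ((r * y) ^ (-1 : ℤ) * r) * ((r * y) ^ (i + 1))⁻¹ := by
              rw [← right_eq_zpow_mul hro hyo]
            _ = (r * y) ^ (-1 : ℤ) * ((r * y) ^ (i + 1) * r * ((r * y) ^ (i + 1))⁻¹) := by
              rw [← mul_assoc ((r * y) ^ (i + 1)) ((r * y) ^ (-1 : ℤ)), ← zpow_add,
                add_comm (i + 1) (-1 : ℤ), zpow_add]
              simp only [mul_assoc]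
            _ = (r * y) ^ (2 * i + 1) * r := by
              rw [conj_left_by_zpow hro hyo, ← mul_assoc, ← zpow_add]
              congr 2
              ring
            _ = z * r := by rw [hj, hwe]
        have hhz : Commute h z := (hpz _).mul_left hg
        have e2 : h⁻¹ * D.x v * h = z * t := by
          calc h⁻¹ * D.x v * h = h⁻¹ * (z * (z * r)) * h := by rw [← mul_assoc z, hz2, one_mul]
            _ = h⁻¹ * z * h * t := by rw [← e]; group
            _ = z * t := by rw [mul_assoc h⁻¹ z h, ← hhz.eq, inv_mul_cancel_left]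
        have hh' : h⁻¹ ∈ N := D.fusion hloc hv0 (by rw [inv_inv, e2]; exact mul_mem hz htN)
        have e3 := D.conj _ hh' v
        rw [inv_inv, e2] at e3
        refine htgood fun a => ?_
        rw [D.s_eq_of_mul_eq_x hz htN hz2 e3]
        exact hbad a
    by_cases hwm : D.Moves w
    · by_cases hwb : D.Bad w
      · by_cases hne : ∃ a, D.s z a ≠ D.s w a
        · exact D.pair_le hloc hz hwN hz2 hw2 hwz.symm hbad hwb hzm hwm hne hyz
            (show Commute w y from hwy).symm
        · push Not at hne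
          obtain ⟨b, hb⟩ := D.ker (w * z) (mul_mem hwN hz) fun a => by
            rw [D.s_mul hwN hz, hne, D.inv_s hwN hw2]
          have hb0 : b ≠ 0 := by
            rintro rfl
            rw [D.x_zero] at hb
            exact hwne (mul_eq_one_iff_eq_inv.1 hb |>.trans (inv_eq_of_mul_eq_one_right hz2))
          exact hloc b hb0 y (hb ▸ (show Commute w y from hwy).symm.mul_right hyz)
      · exact D.good_le hloc hwN hw2 hwb (show Commute w y from hwy).symm
    · have hid : ∀ a, D.s w a = a := fun a => not_not.1 fun h => hwm ⟨a, h⟩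
      obtain ⟨b, hb⟩ := D.ker w hwN hid
      have hb0 : b ≠ 0 := by
        rintro rfl
        rw [D.x_zero] at hb
        exact ne_one hwo hb
      exact hloc b hb0 y (hb ▸ (show Commute w y from hwy).symm)
  -- so does `g`
  have hym : D.Moves y := by
    by_contra hym
    obtain ⟨b, hb⟩ := D.ker y hyN fun a => not_not.1 fun h => hym ⟨a, h⟩
    have hb0 : b ≠ 0 := by
      rintro rfl
      rw [D.x_zero] at hb
      exact ne_one hyo hb
    refine D.conj_x_ne hloc (h := g⁻¹) hb0 htN htm ?_
    rw [← hb, hy]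
    group
  have hy2 := mul_self_eq_one hyo
  set k := g * r * g⁻¹ with hk
  have hky : Commute k y := by
    have h0 : Commute t r := (D.commute_x_iff htN).2 htv
    have := h0.symm.map (MulAut.conj g).toMonoidHom
    simpa [hk, hy] using this
  have hkz : Commute k z := (hg.mul_left hzr.symm).mul_left hg.inv_left
  have hkN : k ∈ N := by
    by_cases hyb : D.Bad y
    · by_cases hne : ∃ a, D.s z a ≠ D.s y a
      · exact D.pair_le hloc hz hyN hz2 hy2 hyz.symm hbad hyb hzm hym hne hkz hky
      · push Not at hne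
        obtain ⟨b, hb⟩ := D.ker (y * z) (mul_mem hyN hz) fun a => by
          rw [D.s_mul hyN hz, hne, D.inv_s hyN hy2]
        exfalso
        have e : g⁻¹ * D.x b * g = t * z := by
          calc g⁻¹ * D.x b * g = g⁻¹ * (g * t * g⁻¹ * z) * g := by rw [← hb, hy]
            _ = t * g⁻¹ * (z * g) := by group
            _ = t * z := by rw [← hg.eq]; group
        have hb0 : b ≠ 0 := by
          rintro rfl
          rw [D.x_zero, mul_one, inv_mul_cancel] at e
          refine htgood fun a => ?_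
          rw [show t = z by rw [← inv_eq_of_mul_eq_one_left e.symm, inv_eq_of_mul_eq_one_right hz2]]
          exact hbad a
        refine D.conj_x_ne hloc (h := g⁻¹) hb0 (mul_mem htN hz) ?_ (by rw [inv_inv]; exact e)
        refine not_not.1 fun hm => htgood fun a => ?_
        have e4 : D.s (t * z) (D.s z a) = D.s z a := not_not.1 fun h => hm ⟨_, h⟩
        rw [D.s_mul htN hz, D.inv_s hz hz2] at e4
        rw [e4]
        exact hbad a
    · exact D.good_le hloc hyN hy2 hyb hky
  exact D.fusion hloc hv0 hkN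

/-- The global step. -/
theorem eq_top [Finite G] (hloc : D.Local) : N = ⊤ := by
  rw [eq_top_iff]
  intro g _
  -- a starting involution
  obtain ⟨v, hvq⟩ : ∃ v, D.q v = 1 := by
    by_contra hc
    push Not at hc
    exact D.not_linear_on ⊤ (by rw [finrank_top, finrank_fin_fun]; norm_num) 0 fun w _ => by
      rw [map_zero, LinearMap.zero_apply]; exact (zmod_two_cases _).resolve_right (hc w)
  have hv0 : v ≠ 0 := fun e => by rw [e, D.q_zero] at hvq; exact zero_ne_one hvq
  obtain ⟨v', hv'P, hv'q, hne⟩ : ∃ v', D.B v v' = 0 ∧ D.q v' = 1 ∧ v ≠ v' := by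
    obtain ⟨u, hu⟩ := D.nondeg' hv0
    have hW : 4 ≤ finrank (ZMod 2) (D.perp (Submodule.span (ZMod 2) {v, u})) := by
      rw [D.finrank_perp]
      have : finrank (ZMod 2) (Submodule.span (ZMod 2) ({v, u} : Set V6)) ≤ 2 := by
        classical
        refine (finrank_span_le_card _).trans ?_
        simp only [Set.toFinset_insert, Set.toFinset_singleton]
        exact Finset.card_le_two
      omega
    obtain ⟨w, hw, hwq⟩ : ∃ w ∈ D.perp (Submodule.span (ZMod 2) {v, u}), D.q w = 1 := by
      by_contra hc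
      push Not at hc
      exact D.not_linear_on _ hW 0 fun w hw => by
        rw [map_zero, LinearMap.zero_apply]; exact (zmod_two_cases _).resolve_right (hc w hw)
    refine ⟨w, hw v (Submodule.subset_span (by simp)), hwq, fun e => ?_⟩
    have h : D.B u w = 0 := hw u (Submodule.subset_span (by simp))
    rw [← e, D.sk, hu] at h
    exact one_ne_zero h
  obtain ⟨u, hu, hu'⟩ := D.exists_B_pair hv0
    (fun e => by rw [e, D.q_zero] at hv'q; exact zero_ne_one hv'q) hne 1 1
  obtain ⟨t, htN, ht2, -, hts⟩ := D.transv v v' u hvq hv'q hv'P hu hu' 1 (one_mem N) (D.s_one _)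
    (D.s_one _) (D.s_one _) (D.σ_one _) (D.σ_one _)
  have htm : D.Moves t := ⟨u, fun h => by
    rw [hts, hu, hu', one_smul, one_smul, add_assoc, add_eq_left, add_eq_zero_iff'] at h
    exact hne h⟩
  have htv : D.s t v = v := by rw [hts, D.alt, hv'P, zero_smul, zero_smul, add_zero, add_zero]
  have ht1 : t ≠ 1 := fun h => by
    obtain ⟨w, hw⟩ := htm
    exact hw (by rw [h, D.s_one])
  have hto : orderOf t = 2 := orderOf_eq_two_iff.2 ⟨ht2, ht1⟩
  have hyo : orderOf (g * t * g⁻¹) = 2 := (orderOf_conj g t).trans hto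
  have hnc : ¬ IsConj (D.x v) (g * t * g⁻¹) := by
    intro h
    obtain ⟨d, hd⟩ := isConj_iff.1 h
    refine D.conj_x_ne hloc (h := g⁻¹ * d) hv0 htN htm ?_
    calc g⁻¹ * d * D.x v * (g⁻¹ * d)⁻¹ = g⁻¹ * (d * D.x v * d⁻¹) * g := by group
      _ = t := by rw [hd]; group
  obtain ⟨w, hwo, hwr, hwy, -⟩ := exists_commuting_involution (D.orderOf_x hv0) hyo hnc
  have hwN : w ∈ N := hloc v hv0 w hwr
  have hyw : Commute (g * t * g⁻¹) w := (show Commute w (g * t * g⁻¹) from hwy).symm
  have hyN : g * t * g⁻¹ ∈ N := by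
    by_cases hwm : D.Moves w
    · exact D.involution_le hloc hwN (mul_self_eq_one hwo) hwm hyw
    · obtain ⟨b, hb⟩ := D.ker w hwN fun a => not_not.1 fun h => hwm ⟨a, h⟩
      have hb0 : b ≠ 0 := by
        rintro rfl
        rw [D.x_zero] at hb
        exact ne_one hwo hb
      exact hloc b hb0 _ (hb ▸ hyw)
  have hym : D.Moves (g * t * g⁻¹) := by
    by_contra hym
    obtain ⟨b, hb⟩ := D.ker _ hyN fun a => not_not.1 fun h => hym ⟨a, h⟩
    have hb0 : b ≠ 0 := by
      rintro rfl
      rw [D.x_zero] at hb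
      exact ne_one hyo hb
    refine D.conj_x_ne hloc (h := g⁻¹) hb0 htN htm ?_
    rw [← hb]
    group
  refine D.fusion hloc hv0 (D.involution_le hloc hyN (mul_self_eq_one hyo) hym ?_)
  have := ((D.commute_x_iff htN).2 htv).symm.map (MulAut.conj g).toMonoidHom
  simpa using this

end Data

end CfsgLib.Geometric.PauliQ
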