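import Cfsg.Agent.Lib.Geometric.PauliMax.Model
import Cfsg.Agent.Lib.Geometric.PauliMax.Extend
import Cfsg.Agent.Lib.Geometric.PauliQ.Global

/-!
A Pauli system of similitudes of a bilinear form, with the quadratic form of the multipliers, and the
data of an overgroup containing the Pauli matrices and the products of two transvection elements.
-/

set_option autoImplicit false

namespace CfsgLib.Geometric.PauliQ

open Cfsg.Geo Matrix CfsgLib.Geometric.PauliMax
open CfsgLib.Geometric.PauliMax.Pauli (scal Q rep NQ mk_eq_mk exists_smul_of_mk_eq)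

variable {ι : Type} [Fintype ι] [DecidableEq ι] {F : Type*} [Field F]

local notation "𝕄" => Matrix ι ι F

/-- A Pauli system whose members are similitudes with multipliers the signs of a quadratic form without
totally singular three-spaces. -/
structure Sys (ι : Type) [Fintype ι] [DecidableEq ι] (F : Type*) [Field F] where
  S : Pauli V6 ι F
  J : Matrix ι ι F
  q : V6 → ZMod 2
  i : F
  hi : i * i = -1
  h2 : (2 : F) ≠ 0
  hJ : IsUnit J
  sim : ∀ v, (S.P v)ᵀ * J * S.P v = sgn F (q v) • J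
  noTS : ∀ W : Submodule (ZMod 2) V6, (∀ w ∈ W, q w = 0) → Module.finrank (ZMod 2) W ≤ 2

/-- A group of similitudes containing the scalars, the Pauli matrices and the products of two
transvection elements at orthogonal labels of odd value. -/
structure Over (Y : Sys ι F) (M : Subgroup (GL ι F)) : Prop where
  sim : ∀ g ∈ M, ∃ k : F, (g : Matrix ι ι F)ᵀ * Y.J * (g : Matrix ι ι F) = k • Y.J
  scalars_le : scalars ι F ≤ M
  gl_mem : ∀ v, Y.S.gl v ∈ M
  pair_mem : ∀ v v', Y.q v = 1 → Y.q v' = 1 → Y.S.B v v' = 0 →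
    Y.S.tgl Y.h2 Y.hi v * Y.S.tgl Y.h2 Y.hi v' ∈ M

namespace Sys

variable (Y : Sys ι F)

theorem nonempty (Y : Sys ι F) : Nonempty ι := by
  by_contra h
  rw [not_nonempty_iff] at h
  exact Y.S.P_ne_zero 0 (Subsingleton.elim _ _)

theorem smul_J_inj {a b : F} (h : a • Y.J = b • Y.J) : a = b := by
  haveI := Y.nonempty
  exact smul_left_injective F Y.hJ.ne_zero h

theorem q_add (v w : V6) : Y.q (v + w) = Y.q v + Y.q w + Y.S.B v w := by
  haveI := Y.nonempty
  obtain ⟨c, -, hc⟩ := Y.S.P_add_coeff v w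
  have h1 := Y.sim (v + w)
  have e : (Y.S.P v * Y.S.P w)ᵀ * Y.J * (Y.S.P v * Y.S.P w) =
      (sgn F (Y.q v) * sgn F (Y.q w)) • Y.J := by
    rw [transpose_mul, show (Y.S.P w)ᵀ * (Y.S.P v)ᵀ * Y.J * (Y.S.P v * Y.S.P w) =
      (Y.S.P w)ᵀ * ((Y.S.P v)ᵀ * Y.J * Y.S.P v) * Y.S.P w by simp only [mul_assoc], Y.sim, mul_smul_comm,
      smul_mul_assoc, Y.sim, smul_smul]
  rw [hc, transpose_smul, smul_mul_assoc, smul_mul_assoc, mul_smul_comm, smul_smul, e, smul_smul] at h1
  have h2 := Y.S.sq (v + w)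
  rw [hc, smul_mul_assoc, mul_smul_comm, smul_smul] at h2
  have e2 : Y.S.P v * Y.S.P w * (Y.S.P v * Y.S.P w) = sgn F (Y.S.B w v) • (1 : 𝕄) := by
    calc _ = Y.S.P v * (Y.S.P w * Y.S.P v) * Y.S.P w := by simp only [mul_assoc]
      _ = _ := by
        rw [Y.S.comm w v, mul_smul_comm, smul_mul_assoc, ← mul_assoc, Y.S.sq, one_mul, Y.S.sq]
  rw [e2, smul_smul] at h2
  have h3 : c * c * sgn F (Y.S.B v w) = 1 := by
    rw [← Y.S.B_swap]
    exact smul_left_injective F (one_ne_zero (α := 𝕄)) (by simpa using h2)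
  apply sgn_inj Y.h2
  rw [PauliMax.sgn_add, PauliMax.sgn_add, ← Y.smul_J_inj h1]
  linear_combination (sgn F (Y.q v) * sgn F (Y.q w) * sgn F (Y.S.B v w)) * h3 -
    (c * c * (sgn F (Y.q v) * sgn F (Y.q w))) * sgn_sq (F := F) (Y.S.B v w)

theorem q_zero : Y.q 0 = 0 := by
  have h := Y.q_add 0 0
  rw [add_zero, Y.S.alt, add_zero] at h
  exact add_eq_left.1 h.symm

variable {Y}

theorem coeff_sq {g : GL ι F} {a b : V6} {c : F}
    (h : (g : 𝕄) * Y.S.P a = c • (Y.S.P b * (g : 𝕄))) : c * c = 1 := by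
  haveI := Y.nonempty
  have e : (g : 𝕄) = (c * c) • (g : 𝕄) := by
    calc (g : 𝕄) = (g : 𝕄) * Y.S.P a * Y.S.P a := by rw [mul_assoc, Y.S.sq, mul_one]
      _ = c • (Y.S.P b * ((g : 𝕄) * Y.S.P a)) := by rw [h, smul_mul_assoc, mul_assoc, h]
      _ = _ := by rw [h, mul_smul_comm, ← mul_assoc, Y.S.sq, one_mul, smul_smul]
  nth_rewrite 1 [← one_smul F (g : 𝕄)] at e
  exact (smul_left_injective F (Units.ne_zero g) e).symm

/-- Similitudes preserve the quadratic form. -/
theorem q_eq {g : GL ι F} {k : F} (hg : (g : 𝕄)ᵀ * Y.J * (g : 𝕄) = k • Y.J) {a b : V6} {c : F}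
    (h : (g : 𝕄) * Y.S.P a = c • (Y.S.P b * (g : 𝕄))) : Y.q a = Y.q b := by
  haveI := Y.nonempty
  have hk : k ≠ 0 := by
    rintro rfl
    rw [zero_smul] at hg
    refine Y.hJ.ne_zero (((Units.mul_left_inj g).1 ?_ : _))
    have h' := congrArg (fun X => ((g⁻¹ : GL ι F) : 𝕄)ᵀ * X) hg
    simp only [← mul_assoc, ← transpose_mul, Units.mul_inv, transpose_one, one_mul, mul_zero] at h'
    rw [h', zero_mul]
  have e1 : ((g : 𝕄) * Y.S.P a)ᵀ * Y.J * ((g : 𝕄) * Y.S.P a) = (k * sgn F (Y.q a)) • Y.J := by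
    rw [transpose_mul, show (Y.S.P a)ᵀ * (g : 𝕄)ᵀ * Y.J * ((g : 𝕄) * Y.S.P a) =
      (Y.S.P a)ᵀ * ((g : 𝕄)ᵀ * Y.J * (g : 𝕄)) * Y.S.P a by simp only [mul_assoc], hg, mul_smul_comm,
      smul_mul_assoc, Y.sim, smul_smul]
  rw [h, transpose_smul, smul_mul_assoc, smul_mul_assoc, mul_smul_comm, smul_smul, coeff_sq h, one_smul,
    transpose_mul, show (g : 𝕄)ᵀ * (Y.S.P b)ᵀ * Y.J * (Y.S.P b * (g : 𝕄)) =
      (g : 𝕄)ᵀ * ((Y.S.P b)ᵀ * Y.J * Y.S.P b) * (g : 𝕄) by simp only [mul_assoc], Y.sim, mul_smul_comm,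
      smul_mul_assoc, hg, smul_smul] at e1
  have e2 := Y.smul_J_inj e1
  exact (sgn_inj Y.h2 (mul_left_cancel₀ hk (by linear_combination e2))).symm

end Sys

namespace Over

variable {Y : Sys ι F} {M : Subgroup (GL ι F)} (ho : Over Y M)

/-- A Pauli matrix in `M`. -/
def px (v : V6) : M := ⟨Y.S.gl v, ho.gl_mem v⟩

open scoped Classical in
/-- The data of the quotient. -/
noncomputable def data [Nonempty ι] :
    PauliQ.Data (Q M) (Y.S.NQ M) where
  x v := QuotientGroup.mk (ho.px v)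
  B := Y.S.B
  s q v := Y.S.sP (rep M q) v
  σ q v := if Y.S.cP (rep M q) v = 1 then 0 else 1
  x_add a b := by
    obtain ⟨c, hc⟩ := Y.S.add a b
    rw [← QuotientGroup.mk_mul]
    exact mk_eq_mk M hc
  x_inj a b e := by
    obtain ⟨c, hc⟩ := exists_smul_of_mk_eq M e
    exact Y.S.eq_of_smul_P hc
  x_mem a := Y.S.mem_NQ.2 (Y.S.gl_mem_norm a)
  conj := by
    intro n hn v
    induction n using QuotientGroup.induction_on with
    | _ g =>
      have hg := Y.S.mem_NQ.1 hn
      rw [(Y.S.act_mk hg v).1, ← QuotientGroup.mk_inv, ← QuotientGroup.mk_mul, ← QuotientGroup.mk_mul]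
      refine mk_eq_mk M (c := Y.S.cP (g : GL ι F) v) ?_
      show (((g : GL ι F) * Y.S.gl v * (g : GL ι F)⁻¹ : GL ι F) : 𝕄) = _
      rw [Units.val_mul, Units.val_mul, Pauli.coe_gl, Y.S.act_spec hg, smul_mul_assoc, mul_assoc, Units.mul_inv,
        mul_one]
      rfl
  alt := Y.S.alt
  nondeg := Y.S.nondeg
  pres n hn v w := Y.S.act_B Y.h2 (Y.S.rep_mem hn) v w
  ker := by
    intro n hn h
    obtain ⟨u, c, hc⟩ := Y.S.exists_of_fixed Y.h2 (Y.S.rep_mem hn) h
    refine ⟨u, ?_⟩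
    rw [← QuotientGroup.out_eq' n]
    exact mk_eq_mk M hc
  σ_mul := by
    intro n hn m hm v hv1 hv2
    induction n using QuotientGroup.induction_on with
    | _ g =>
    induction m using QuotientGroup.induction_on with
    | _ h =>
      have hg := Y.S.mem_NQ.1 hn
      have hh := Y.S.mem_NQ.1 hm
      rw [(Y.S.act_mk hh v).1] at hv2
      have hgh : ((g * h : M) : GL ι F) ∈ Y.S.norm := mul_mem hg hh
      rw [← QuotientGroup.mk_mul, (Y.S.act_mk hgh v).2, (Y.S.act_mk hg v).2, (Y.S.act_mk hh v).2,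
        show ((g * h : M) : GL ι F) = (g : GL ι F) * (h : GL ι F) from rfl, (Y.S.act_mul hg hh v).2, hv2]
      rcases mul_self_eq_one_iff.1 (Y.S.cP_sq hh v) with e | e <;>
      rcases mul_self_eq_one_iff.1 (Y.S.cP_sq hg v) with e' | e' <;>
      simp [e, e', show (-1 : F) ≠ 1 from fun h => Y.h2 (by linear_combination -h),
        show (1 + 1 : ZMod 2) = 0 from by decide]
  σ_add := by
    intro n hn v w hv hw
    have hr := Y.S.rep_mem hn
    rw [(Y.S.act_add hr v w).2 hv hw]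
    rcases mul_self_eq_one_iff.1 (Y.S.cP_sq hr v) with e | e <;>
    rcases mul_self_eq_one_iff.1 (Y.S.cP_sq hr w) with e' | e' <;>
    simp [e, e', show (-1 : F) ≠ 1 from fun h => Y.h2 (by linear_combination -h),
      show (1 + 1 : ZMod 2) = 0 from by decide]
  σ_sq := by
    intro n hn hn2 v
    induction n using QuotientGroup.induction_on with
    | _ g =>
      have hg := Y.S.mem_NQ.1 hn
      rw [(Y.S.act_mk hg v).1, (Y.S.act_mk hg _).2]
      obtain ⟨c, hc⟩ := exists_smul_of_mk_eq M (g := g * g) (h := 1) (by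
        rw [QuotientGroup.mk_mul]; exact hn2)
      have hcm : (((g : GL ι F) * (g : GL ι F) : GL ι F) : 𝕄) = c • (1 : 𝕄) := hc
      obtain ⟨e1, e2⟩ := Y.S.act_unique (mul_mem hg hg) (v := v) (w := v) (c := 1) (by
        rw [hcm, one_smul, smul_mul_assoc, one_mul, mul_smul_comm, mul_one])
      rw [(Y.S.act_mul hg hg v).1] at e1
      rw [(Y.S.act_mul hg hg v).2] at e2
      set w := Y.S.sP (g : GL ι F) v with hw
      obtain ⟨k, -, hk⟩ := Y.S.P_add_coeff v w
      have hc' : Y.S.cP (g : GL ι F) (v + w) = sgn F (Y.S.B w v) := by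
        refine (Y.S.act_unique hg (w := v + w) ?_).2
        calc ((g : GL ι F) : 𝕄) * Y.S.P (v + w)
            = k • (((g : GL ι F) : 𝕄) * Y.S.P v * Y.S.P w) := by rw [hk, mul_smul_comm, mul_assoc]
          _ = k • (Y.S.cP (g : GL ι F) v • (Y.S.P w * (((g : GL ι F) : 𝕄) * Y.S.P w))) := by
              rw [Y.S.act_spec hg, ← hw, smul_mul_assoc, mul_assoc]
          _ = k • ((Y.S.P w * Y.S.P v) * ((g : GL ι F) : 𝕄)) := by
              rw [Y.S.act_spec hg w, e1, mul_smul_comm, smul_smul (Y.S.cP (g : GL ι F) v), e2, one_smul, mul_assoc]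
          _ = _ := by
              rw [Y.S.comm w v, hk, smul_mul_assoc, smul_mul_assoc, smul_comm]
      rw [hc']
      have sk : Y.S.B w v = Y.S.B v w := by
        have h := Y.S.alt (v + w)
        simp only [map_add, LinearMap.add_apply, Y.S.alt, add_zero, zero_add] at h
        revert h; generalize Y.S.B v w = a; generalize Y.S.B w v = b; revert a b; decide
      rw [sk]
      have key : ∀ a : ZMod 2, a = 0 ∨ a = 1 := by decide
      rcases key (Y.S.B v w) with e | e <;>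
        simp [e, sgn_zero, sgn_one, show (-1 : F) ≠ 1 from fun h => Y.h2 (by linear_combination -h)]
  q := Y.q
  q_add := Y.q_add
  noTS := Y.noTS
  q_conj := by
    intro q a b h
    induction q using QuotientGroup.induction_on with
    | _ g =>
      rw [← QuotientGroup.mk_inv, ← QuotientGroup.mk_mul, ← QuotientGroup.mk_mul] at h
      obtain ⟨c, hc⟩ := exists_smul_of_mk_eq M h
      obtain ⟨k, hk⟩ := ho.sim g g.2
      have hc' : ((g : GL ι F) : 𝕄) * Y.S.P a * (((g : GL ι F)⁻¹ : GL ι F) : 𝕄) = c • Y.S.P b := hc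
      refine Sys.q_eq hk (c := c) ?_
      have := congrArg (fun X => X * ((g : GL ι F) : 𝕄)) hc'
      simpa [mul_assoc, smul_mul_assoc] using this
  transv := by
    intro v v' u hqv hqv' hvv huv huv' z hz hzv hzv' hzu hσ hσ'
    induction z using QuotientGroup.induction_on with
    | _ z =>
      have hzn := Y.S.mem_NQ.1 hz
      obtain ⟨htn, hts⟩ := Y.S.tgl_mem_norm Y.h2 Y.hi v
      obtain ⟨htn', hts'⟩ := Y.S.tgl_mem_norm Y.h2 Y.hi v'
      set T := Y.S.tgl Y.h2 Y.hi v with hT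
      set T' := Y.S.tgl Y.h2 Y.hi v' with hT'
      have htu : T * T' * Y.S.gl u ∈ Y.S.norm := mul_mem (mul_mem htn htn') (Y.S.gl_mem_norm u)
      let t : M := ⟨T * T' * Y.S.gl u, mul_mem (ho.pair_mem v v' hqv hqv' hvv) (ho.gl_mem u)⟩
      have hcvv : Commute (1 + Y.i • Y.S.P v) (1 + Y.i • Y.S.P v') := by
        have h0 : Commute (Y.S.P v) (Y.S.P v') := by
          show _ = _
          rw [Y.S.comm v v', hvv, sgn_zero, one_smul]
        exact (Commute.one_left _).add_left ((Commute.one_right _).add_right ((h0.smul_left _).smul_right _))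
      refine ⟨QuotientGroup.mk t, Y.S.mem_NQ.2 htu, ?_, ?_, fun w => ?_⟩
      · rw [← QuotientGroup.mk_mul, ← QuotientGroup.mk_one]
        refine mk_eq_mk M (c := (1 + Y.i)⁻¹ * (1 + Y.i)⁻¹ * ((1 + Y.i)⁻¹ * (1 + Y.i)⁻¹) * 4) ?_
        show (((T * T' * Y.S.gl u) * (T * T' * Y.S.gl u) : GL ι F) : 𝕄) =
          ((1 + Y.i)⁻¹ * (1 + Y.i)⁻¹ * ((1 + Y.i)⁻¹ * (1 + Y.i)⁻¹) * 4) • (1 : 𝕄)
        simp only [hT, hT', Units.val_mul, Pauli.coe_tgl, Pauli.coe_gl]
        have e : ∀ x, Y.S.B u x = 1 → Y.S.P u * (1 + Y.i • Y.S.P x) = (1 - Y.i • Y.S.P x) * Y.S.P u := by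
          intro x hx
          rw [mul_add, sub_mul, mul_one, one_mul, mul_smul_comm, smul_mul_assoc, Y.S.comm u x, hx, sgn_one,
            neg_one_smul, smul_neg, sub_eq_add_neg]
        have e2 : ∀ x, (1 + Y.i • Y.S.P x) * (1 - Y.i • Y.S.P x) = (2 : F) • (1 : 𝕄) := by
          intro x
          rw [add_mul, mul_sub, mul_sub, mul_one, one_mul, mul_one, smul_mul_assoc, mul_smul_comm, Y.S.sq,
            smul_smul, Y.hi]
          module
        have hc' : Commute (1 + Y.i • Y.S.P v') (1 - Y.i • Y.S.P v) := by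
          have h0 : Commute (Y.S.P v') (Y.S.P v) := by
            show _ = _
            rw [Y.S.comm v' v, Y.S.B_swap, hvv, sgn_zero, one_smul]
          exact (Commute.one_left _).add_left ((Commute.one_right _).sub_right ((h0.smul_left _).smul_right _))
        simp only [smul_mul_assoc, mul_smul_comm, smul_smul]
        have key : (1 + Y.i • Y.S.P v) * (1 + Y.i • Y.S.P v') * Y.S.P u *
            ((1 + Y.i • Y.S.P v) * (1 + Y.i • Y.S.P v') * Y.S.P u) = (4 : F) • (1 : 𝕄) := by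
          calc _ = (1 + Y.i • Y.S.P v) * (1 + Y.i • Y.S.P v') * (Y.S.P u * (1 + Y.i • Y.S.P v)) *
                ((1 + Y.i • Y.S.P v') * Y.S.P u) := by simp only [mul_assoc]
            _ = (1 + Y.i • Y.S.P v) * ((1 + Y.i • Y.S.P v') * (1 - Y.i • Y.S.P v)) *
                (Y.S.P u * (1 + Y.i • Y.S.P v')) * Y.S.P u := by rw [e v huv]; simp only [mul_assoc]
            _ = (1 + Y.i • Y.S.P v) * (1 - Y.i • Y.S.P v) * ((1 + Y.i • Y.S.P v') * (1 - Y.i • Y.S.P v')) *
                (Y.S.P u * Y.S.P u) := by rw [hc'.eq, e v' huv']; simp only [mul_assoc]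
            _ = _ := by rw [e2, e2, Y.S.sq, mul_one, smul_mul_assoc, one_mul, smul_smul]; norm_num
        rw [key, smul_smul]
      · rw [Commute, SemiconjBy, ← QuotientGroup.mk_mul, ← QuotientGroup.mk_mul]
        have hcP : ∀ x, (if Y.S.cP (rep M (QuotientGroup.mk z)) x = 1 then (0 : ZMod 2) else 1) = 0 →
            Y.S.sP (rep M (QuotientGroup.mk z)) x = x →
            ((z : GL ι F) : 𝕄) * (Y.S.tgl Y.h2 Y.hi x : 𝕄) = (Y.S.tgl Y.h2 Y.hi x : 𝕄) * ((z : GL ι F) : 𝕄) := by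
          intro x hσx hzx
          rw [(Y.S.act_mk hzn x).2] at hσx
          rw [(Y.S.act_mk hzn x).1] at hzx
          refine (Y.S.tgl_comm Y.h2 Y.hi x ?_).symm
          have hcv : Y.S.cP (z : GL ι F) x = 1 := by
            by_contra hne
            rw [if_neg hne] at hσx
            exact one_ne_zero hσx
          rw [Y.S.act_spec hzn x, hcv, hzx, one_smul]
        rw [(Y.S.act_mk hzn u).1] at hzu
        refine (mk_eq_mk M (c := Y.S.cP (z : GL ι F) u) ?_).symm
        show (((z : GL ι F) * (T * T' * Y.S.gl u) : GL ι F) : 𝕄) =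
          Y.S.cP (z : GL ι F) u • (((T * T' * Y.S.gl u) * (z : GL ι F) : GL ι F) : 𝕄)
        simp only [hT, hT', Units.val_mul, Pauli.coe_gl]
        rw [← mul_assoc, ← mul_assoc, hcP v hσ hzv, mul_assoc (Y.S.tgl Y.h2 Y.hi v : 𝕄), hcP v' hσ' hzv',
          ← mul_assoc, mul_assoc, Y.S.act_spec hzn u, hzu, mul_smul_comm]
        simp only [mul_assoc]
      · rw [(Y.S.act_mk htu w).1, (Y.S.act_mul (mul_mem htn htn') (Y.S.gl_mem_norm u) w).1, (Y.S.act_gl u w).1,
          (Y.S.act_mul htn htn' w).1, hts', hts, map_add, LinearMap.add_apply, map_smul, LinearMap.smul_apply,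
          Y.S.B_swap v' v, hvv, smul_zero, add_zero, add_assoc, add_comm (Y.S.B w v' • v'), ← add_assoc]

include ho in
/-- The local-to-global statement. -/
theorem le_norm_of_local [Finite F]
    (hloc : ∀ a, a ≠ 0 → ∀ g ∈ M, ∀ c : F,
      ((g : GL ι F) : 𝕄) * Y.S.P a = c • (Y.S.P a * ((g : GL ι F) : 𝕄)) → g ∈ Y.S.norm) :
    M ≤ Y.S.norm := by
  haveI := Y.nonempty
  have htop : Y.S.NQ M = ⊤ := ho.data.eq_top fun a ha q hq => by
    induction q using QuotientGroup.induction_on with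
    | _ g =>
      obtain ⟨c, hc⟩ := exists_smul_of_mk_eq M (g := g * ho.px a) (h := ho.px a * g) hq
      exact Y.S.mem_NQ.2 (hloc a ha g g.2 c hc)
  intro g hg
  exact (Y.S.mem_NQ (g := (⟨g, hg⟩ : M))).1 (htop ▸ Subgroup.mem_top _)

include ho in
/-- An element carrying a label with known centraliser to a label. -/
theorem mem_norm_of_maps [Finite F] {g : GL ι F} (hg : g ∈ M) {a b : V6} {c : F} (ha : a ≠ 0)
    (hloc : ∀ g ∈ M, ∀ c : F,
      ((g : GL ι F) : 𝕄) * Y.S.P a = c • (Y.S.P a * ((g : GL ι F) : 𝕄)) → g ∈ Y.S.norm)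
    (h : ((g : GL ι F) : 𝕄) * Y.S.P a = c • (Y.S.P b * ((g : GL ι F) : 𝕄))) : g ∈ Y.S.norm := by
  haveI := Y.nonempty
  obtain ⟨k, hk⟩ := ho.sim g hg
  have hb : b ≠ 0 := by
    rintro rfl
    rw [Y.S.zero, one_mul] at h
    have h' : Y.S.P a = c • Y.S.P 0 := by
      rw [Y.S.zero]
      exact smul_gl_cancel (h.trans (by rw [mul_smul_comm, mul_one]))
    exact ha (Y.S.eq_of_smul_P h')
  obtain ⟨q, hq, hs⟩ := ho.data.transitive hb ha (Sys.q_eq hk h).symm
  induction q using QuotientGroup.induction_on with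
  | _ n =>
    have hn := Y.S.mem_NQ.1 hq
    have hs' : Y.S.sP (n : GL ι F) b = a := (Y.S.act_mk hn b).1.symm.trans hs
    refine (Y.S.norm.mul_mem_cancel_left hn).1 (hloc _ (mul_mem n.2 hg) (c * Y.S.cP (n : GL ι F) b) ?_)
    rw [Units.val_mul, mul_assoc, h, mul_smul_comm, ← mul_assoc, Y.S.act_spec hn, hs', smul_mul_assoc,
      smul_smul, mul_assoc]

end Over

end CfsgLib.Geometric.PauliQ
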