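import Cfsg.Agent.Lib.Geometric.PauliQ.Model
import Cfsg.Agent.Lib.Geometric.PauliQ.Gen
import Cfsg.Agent.Lib.Geometric.PauliMax.LocalBig
import Cfsg.Agent.Lib.Geometric.PauliMax.Split
import Cfsg.Agent.Lib.Geometric.PauliMax.DichotomyFour
import Cfsg.Agent.Lib.Geometric.SLFour.Fusion

/-!
If the centralisers of the Pauli matrices of even value normalise the system, so do the others.
-/

set_option autoImplicit false
set_option maxHeartbeats 800000

namespace CfsgLib.Geometric.PauliQ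

open Cfsg.Geo Matrix CfsgLib.Geometric.PauliMax

variable {ι : Type} [Fintype ι] [DecidableEq ι] {F : Type*} [Field F]

local notation "𝕄" => Matrix ι ι F
local notation "𝕂" => Matrix (Fin 4) (Fin 4) F

namespace Sys

variable {Y : Sys ι F} {c u : V6} (sp : Split Y.S c u)

/-- A matrix centralising `P c`, antisymmetric or symmetric for the form and vanishing on the first
eigenspace is zero. -/
theorem eq_zero_of_block (hqc : Y.q c = 1) {X : 𝕄} (hX : X * Y.S.P c = Y.S.P c * X) {s : F}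
    (hs : Xᵀ * Y.J = s • (Y.J * X)) (h11 : (sp.Φ X).toBlocks₁₁ = 0) : X = 0 := by
  obtain ⟨A, B, C, D, hΦ⟩ : ∃ A B C D, sp.Φ X = fromBlocks A B C D :=
    ⟨_, _, _, _, (fromBlocks_toBlocks _).symm⟩
  have e := congrArg sp.Φ hX
  rw [map_mul, map_mul, hΦ, sp.P_v, fromBlocks_multiply, fromBlocks_multiply] at e
  simp only [mul_one, mul_zero, zero_mul, one_mul, add_zero, zero_add, fromBlocks_inj, mul_neg,
    neg_mul] at e
  have z : ∀ Y' : 𝕂, -Y' = Y' → Y' = 0 := fun Y' hY => by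
    have : (2 : F) • Y' = 0 := by rw [two_smul]; nth_rewrite 1 [← hY]; rw [neg_add_cancel]
    exact (smul_eq_zero.1 this).resolve_left Y.h2
  have hA : A = 0 := by rw [hΦ, toBlocks_fromBlocks₁₁] at h11; exact h11
  have hXp : X * (1 + Y.S.P c) = 0 := by
    apply sp.Φ_inj
    rw [map_mul, map_add, map_one, map_zero, hΦ, sp.P_v, hA, z B e.2.1, z C e.2.2.1.symm, ← fromBlocks_one,
      fromBlocks_add, fromBlocks_multiply]
    simp
  have hpX : (1 + Y.S.P c) * X = 0 := by rw [add_mul, one_mul, ← hX, ← hXp, mul_add, mul_one]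
  have hP : (Y.S.P c)ᵀ * Y.J = -(Y.J * Y.S.P c) := by
    have h := congrArg (fun Z => Z * Y.S.P c) (Y.sim c)
    rw [hqc, sgn_one] at h
    simp only [mul_assoc, Y.S.sq, mul_one] at h
    rw [h, neg_one_smul, neg_mul]
  have h1 : Xᵀ * Y.J * (1 + Y.S.P c) = 0 := by
    rw [hs, smul_mul_assoc, mul_assoc, hXp, mul_zero, smul_zero]
  have h2 : Xᵀ * Y.J * (1 - Y.S.P c) = 0 := by
    have h := congrArg (fun Z => Zᵀ * Y.J) hpX
    simp only [transpose_mul, transpose_add, transpose_one, transpose_zero, zero_mul] at h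
    rw [mul_assoc, add_mul, one_mul, hP, ← sub_eq_add_neg] at h
    rw [mul_assoc, mul_sub, mul_one]
    exact h
  have h3 : (2 : F) • (Xᵀ * Y.J) = 0 := by
    have e' : Xᵀ * Y.J * (1 + Y.S.P c) + Xᵀ * Y.J * (1 - Y.S.P c) = (2 : F) • (Xᵀ * Y.J) := by
      rw [← mul_add, show (1 + Y.S.P c) + (1 - Y.S.P c) = (2 : F) • (1 : 𝕄) by module, mul_smul_comm,
        mul_one]
    rw [← e', h1, h2, add_zero]
  obtain ⟨J', hJ'⟩ := Y.hJ
  have h4 : Xᵀ * (J' : 𝕄) = 0 := by rw [hJ']; exact (smul_eq_zero.1 h3).resolve_left Y.h2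
  have h5 : Xᵀ = 0 := by
    calc Xᵀ = Xᵀ * (J' : 𝕄) * ((J'⁻¹ : 𝕄ˣ) : 𝕄) := by rw [mul_assoc, Units.mul_inv, mul_one]
      _ = 0 := by rw [h4, zero_mul]
  exact transpose_eq_zero.1 h5

end Sys

namespace Over

variable {Y : Sys ι F} {M : Subgroup (GL ι F)} (ho : Over Y M)

include ho in
/-- The adjoint of a conjugate of a Pauli matrix. -/
theorem conj_sim {g : GL ι F} (hg : g ∈ M) (a : V6) :
    ((g * Y.S.gl a * g⁻¹ : GL ι F) : 𝕄)ᵀ * Y.J =
      sgn F (Y.q a) • (Y.J * ((g * Y.S.gl a * g⁻¹ : GL ι F) : 𝕄)) := by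
  obtain ⟨k, hk⟩ := ho.sim g hg
  obtain ⟨k', hk'⟩ := ho.sim g⁻¹ (inv_mem hg)
  set G := (g : 𝕄)
  set H := ((g⁻¹ : GL ι F) : 𝕄)
  have hGH : G * H = 1 := Units.mul_inv g
  have hHG : H * G = 1 := Units.inv_mul g
  have hkk : k * k' = 1 := by
    refine Y.smul_J_inj ?_
    calc (k * k') • Y.J = Hᵀ * (Gᵀ * Y.J * G) * H := by
          rw [hk, mul_smul_comm, smul_mul_assoc, hk', smul_smul]
      _ = (G * H)ᵀ * Y.J * (G * H) := by rw [transpose_mul]; simp only [mul_assoc]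
      _ = (1 : F) • Y.J := by rw [hGH, transpose_one, one_mul, mul_one, one_smul]
  set Z := ((g * Y.S.gl a * g⁻¹ : GL ι F) : 𝕄) with hZdef
  have hZ : Z = G * Y.S.P a * H := rfl
  have hZZ : Z * Z = 1 := by
    calc Z * Z = G * Y.S.P a * (H * G) * Y.S.P a * H := by rw [hZ]; simp only [mul_assoc]
      _ = 1 := by rw [hHG, mul_one, mul_assoc G, Y.S.sq, mul_one, hGH]
  have hsim : Zᵀ * Y.J * Z = sgn F (Y.q a) • Y.J := by
    calc Zᵀ * Y.J * Z = Hᵀ * ((Y.S.P a)ᵀ * (Gᵀ * Y.J * G) * Y.S.P a) * H := by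
          rw [hZ, transpose_mul, transpose_mul]; simp only [mul_assoc]
      _ = (k * sgn F (Y.q a) * k') • Y.J := by
          rw [hk, mul_smul_comm, smul_mul_assoc, Y.sim, smul_smul, mul_smul_comm, smul_mul_assoc, hk',
            smul_smul]
      _ = _ := by rw [mul_right_comm, hkk, one_mul]
  calc Zᵀ * Y.J = Zᵀ * Y.J * Z * Z := by rw [mul_assoc, hZZ, mul_one]
    _ = _ := by rw [hsim, smul_mul_assoc]

include ho in
/-- Labels with proportional first blocks. -/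
theorem maps_of_block {c u : V6} (sp : Split Y.S c u) (hqc : Y.q c = 1) {g : GL ι F} (hg : g ∈ M)
    (hgc : (g : 𝕄) * Y.S.P c = Y.S.P c * (g : 𝕄)) {a b : V6} (ha : Y.S.B c a = 0) (hb : Y.S.B c b = 0)
    (hab : Y.q a = Y.q b) {m : F}
    (h : (sp.Φ ((g * Y.S.gl a * g⁻¹ : GL ι F) : 𝕄)).toBlocks₁₁ = m • (sp.Φ (Y.S.P b)).toBlocks₁₁) :
    (g : 𝕄) * Y.S.P a = m • (Y.S.P b * (g : 𝕄)) := by
  have hcP : ∀ x, Y.S.B c x = 0 → Commute (Y.S.P c) (Y.S.P x) := fun x hx => by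
    show _ = _
    rw [Y.S.comm c x, hx, sgn_zero, one_smul]
  have hgi : Commute ((g⁻¹ : GL ι F) : 𝕄) (Y.S.P c) :=
    (show Commute (g : 𝕄) (Y.S.P c) from hgc).units_inv_left
  set Z := ((g * Y.S.gl a * g⁻¹ : GL ι F) : 𝕄) with hZ
  have hZc : Commute Z (Y.S.P c) := by
    rw [hZ, Units.val_mul, Units.val_mul, Pauli.coe_gl]
    exact ((show Commute (g : 𝕄) (Y.S.P c) from hgc).mul_left (hcP a ha).symm).mul_left hgi
  have hbs : (Y.S.P b)ᵀ * Y.J = sgn F (Y.q b) • (Y.J * Y.S.P b) := by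
    have := congrArg (fun Z => Z * Y.S.P b) (Y.sim b)
    simp only [mul_assoc, Y.S.sq, mul_one, smul_mul_assoc] at this
    exact this
  have h0 := Sys.eq_zero_of_block sp hqc (X := Z - m • Y.S.P b) (s := sgn F (Y.q a))
    (by rw [sub_mul, mul_sub, hZc.eq, smul_mul_assoc, mul_smul_comm, (hcP b hb).eq])
    (by rw [transpose_sub, transpose_smul, sub_mul, ho.conj_sim hg a, smul_mul_assoc, hbs, hab, mul_sub,
      smul_sub, mul_smul_comm, smul_comm m])
    (by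
      ext i j
      have h' := congrFun (congrFun h i) j
      simp [toBlocks₁₁, sp.Φ_smul] at h' ⊢
      rw [h', sub_self])
  rw [sub_eq_zero] at h0
  calc (g : 𝕄) * Y.S.P a = Z * (g : 𝕄) := by
        rw [hZ, Units.val_mul, Units.val_mul, Pauli.coe_gl, Units.inv_mul_cancel_right]
    _ = _ := by rw [h0, smul_mul_assoc]

include ho in
/-- The centralisers of the labels of odd value normalise the system. -/
theorem local_nonsingular [Finite F]
    (hsing : ∀ a, a ≠ 0 → Y.q a = 0 → ∀ g ∈ M, ∀ k : F,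
      ((g : GL ι F) : 𝕄) * Y.S.P a = k • (Y.S.P a * ((g : GL ι F) : 𝕄)) → g ∈ Y.S.norm)
    {c : V6} (hqc : Y.q c = 1) {g : GL ι F} (hg : g ∈ M) {k : F}
    (hgk : (g : 𝕄) * Y.S.P c = k • (Y.S.P c * (g : 𝕄))) : g ∈ Y.S.norm := by
  classical
  haveI := Y.nonempty
  obtain ⟨u, hu⟩ : ∃ u, Y.S.B c u = 1 := by
    by_contra hc
    push Not at hc
    have hc0 : c = 0 := Y.S.nondeg c fun w => (PauliMax.two_cases _).resolve_right (hc w)
    rw [hc0, Y.q_zero] at hqc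
    exact zero_ne_one hqc
  obtain ⟨sp⟩ := PauliMax.exists_split Y.h2 Y.S hu
  -- singular representatives
  have hfc : ∀ y, Y.S.B c (sp.f y) = 0 := fun y => (sp.perp y).1
  let r : V4 → V6 := fun y => sp.f y + Y.q (sp.f y) • c
  have hr0 : ∀ y, Y.q (r y) = 0 := by
    intro y
    show Y.q (sp.f y + Y.q (sp.f y) • c) = 0
    rcases PauliMax.two_cases (Y.q (sp.f y)) with e | e <;> rw [e]
    · rw [zero_smul, add_zero, e]
    · rw [one_smul, Y.q_add, e, hqc, Y.S.B_swap, hfc, add_zero]; decide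
  have hrc : ∀ y, Y.S.B c (r y) = 0 := fun y => by
    show Y.S.B c (sp.f y + Y.q (sp.f y) • c) = 0
    rw [map_add, hfc, map_smul, Y.S.alt, smul_zero, add_zero]
  have hrne : ∀ y, y ≠ 0 → r y ≠ 0 := by
    intro y hy h
    have h' : Y.S.B u (r y) = 0 := by rw [h, map_zero]
    show False
    change Y.S.B u (sp.f y + Y.q (sp.f y) • c) = 0 at h'
    rw [map_add, (sp.perp y).2, zero_add, map_smul, Y.S.B_swap, hu, smul_eq_mul, mul_one] at h'
    change sp.f y + Y.q (sp.f y) • c = 0 at h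
    rw [h', zero_smul, add_zero] at h
    exact hy (sp.T.nondeg y fun w => by rw [← sp.B_f, h, map_zero, LinearMap.zero_apply])
  have hrΦ : ∀ y, ∃ e : F, e ≠ 0 ∧ (sp.Φ (Y.S.P (r y))).toBlocks₁₁ = e • sp.T.P y := by
    intro y
    show ∃ e : F, e ≠ 0 ∧ (sp.Φ (Y.S.P (sp.f y + Y.q (sp.f y) • c))).toBlocks₁₁ = e • sp.T.P y
    rcases PauliMax.two_cases (Y.q (sp.f y)) with e | e <;> rw [e]
    · exact ⟨1, one_ne_zero, by rw [zero_smul, add_zero, sp.P_f, toBlocks_fromBlocks₁₁, one_smul]⟩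
    · obtain ⟨m, hm0, hm⟩ := Y.S.P_add_coeff (sp.f y) c
      exact ⟨m, hm0, by rw [one_smul, hm, sp.Φ_smul, map_mul, sp.P_f, sp.P_v, fromBlocks_multiply,
        fromBlocks_smul, toBlocks_fromBlocks₁₁]; simp⟩
  -- the projection group
  set H := sp.projGroup M with hH
  have hproj : ∀ {x : GL ι F}, x ∈ M → (x : 𝕄) * Y.S.P c = Y.S.P c * (x : 𝕄) →
      ∃ A : GL (Fin 4) F, A ∈ H ∧ (A : 𝕂) = (sp.Φ (x : 𝕄)).toBlocks₁₁ := by
    intro x hx hxc
    obtain ⟨A, B, rfl⟩ := sp.exists_bd Y.h2 hxc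
    exact ⟨A, sp.mem_projGroup hx, by rw [sp.Φ_bd, toBlocks_fromBlocks₁₁]⟩
  have hsc : scalars (Fin 4) F ≤ H := by
    intro A hA
    obtain ⟨a, ha⟩ := (mem_scalars_iff A).1 hA
    refine sp.mem_projGroup (B := A) (ho.scalars_le ((mem_scalars_iff _).2 ⟨a, sp.Φ_inj ?_⟩))
    rw [sp.Φ_bd, sp.Φ_smul, map_one, ha, ← fromBlocks_one, fromBlocks_smul, smul_zero]
  have hglH : ∀ y, sp.T.gl y ∈ H := by
    intro y
    refine sp.mem_projGroup (B := sp.T.gl y) ?_
    convert ho.gl_mem (sp.f y) using 1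
    exact Units.ext (sp.Φ_inj (by rw [sp.Φ_bd]; exact (sp.P_f y).symm))
  have hi0 : Y.i ≠ 0 := fun h => by have := Y.hi; simp [h] at this
  have h1i : (1 + Y.i) ≠ 0 := fun h => Y.h2 (by
    have e : Y.i = -1 := by linear_combination h
    have h' := Y.hi
    rw [e] at h'
    linear_combination h')
  have htglH : ∀ y, sp.T.tgl Y.h2 Y.hi y ∈ H := by
    intro y
    set s := sp.f y + (Y.q (sp.f y) + 1) • c with hsdef
    have hs1 : Y.q s = 1 := by
      rw [hsdef]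
      rcases PauliMax.two_cases (Y.q (sp.f y)) with e | e <;> rw [e]
      · rw [zero_add, one_smul, Y.q_add, e, hqc, Y.S.B_swap, hfc]; decide
      · rw [show (1 + 1 : ZMod 2) = 0 by decide, zero_smul, add_zero, e]
    have hsc' : Y.S.B c s = 0 := by
      rw [hsdef, map_add, hfc, map_smul, Y.S.alt, smul_zero, add_zero]
    obtain ⟨a1, -⟩ := Y.S.tgl_mem_norm Y.h2 Y.hi c
    have hxc : ((Y.S.tgl Y.h2 Y.hi c * Y.S.tgl Y.h2 Y.hi s : GL ι F) : 𝕄) * Y.S.P c =
        Y.S.P c * ((Y.S.tgl Y.h2 Y.hi c * Y.S.tgl Y.h2 Y.hi s : GL ι F) : 𝕄) := by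
      rw [Units.val_mul, mul_assoc, Y.S.tgl_comm Y.h2 Y.hi s (by
        rw [Y.S.comm s c, Y.S.B_swap, hsc', sgn_zero, one_smul]), ← mul_assoc,
        Y.S.tgl_comm Y.h2 Y.hi c rfl, mul_assoc]
    obtain ⟨A, hA, hA'⟩ := hproj (ho.pair_mem c s hqc hs1 hsc') hxc
    obtain ⟨e, he, hblock⟩ : ∃ e : F, (e = 1 ∨ e = -1) ∧
        sp.Φ (Y.S.P s) = fromBlocks (e • sp.T.P y) 0 0 ((sp.Φ (Y.S.P s)).toBlocks₂₂) := by
      rw [hsdef]
      rcases PauliMax.two_cases (Y.q (sp.f y)) with q | q <;> rw [q]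
      · obtain ⟨m, hm0, hm⟩ := Y.S.P_add_coeff (sp.f y) c
        have hm1 : m * m = 1 := by
          have h := Y.S.sq (sp.f y + c)
          rw [hm, smul_mul_assoc, mul_smul_comm, smul_smul] at h
          have hcf : Commute (Y.S.P (sp.f y)) (Y.S.P c) := by
            show _ = _
            rw [Y.S.comm (sp.f y) c, Y.S.B_swap, hfc, sgn_zero, one_smul]
          rw [hcf.symm.mul_mul_mul_comm, Y.S.sq, Y.S.sq, one_mul] at h
          exact smul_left_injective F (one_ne_zero (α := 𝕄)) (by simpa using h)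
        refine ⟨m, mul_self_eq_one_iff.1 hm1, ?_⟩
        rw [zero_add, one_smul, hm, sp.Φ_smul, map_mul, sp.P_f, sp.P_v, fromBlocks_multiply, fromBlocks_smul,
          toBlocks_fromBlocks₂₂]
        simp
      · refine ⟨1, Or.inl rfl, ?_⟩
        rw [show (1 + 1 : ZMod 2) = 0 by decide, zero_smul, add_zero, sp.P_f, toBlocks_fromBlocks₂₂, one_smul]
    have hAe : (A : 𝕂) = (1 + Y.i)⁻¹ • (1 + (Y.i * e) • sp.T.P y) := by
      rw [hA', Units.val_mul, map_mul, Y.S.coe_tgl, Y.S.coe_tgl, sp.Φ_smul, sp.Φ_smul, map_add, map_add,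
        map_one, sp.Φ_smul, sp.Φ_smul, sp.P_v, hblock, ← fromBlocks_one]
      simp only [fromBlocks_smul, fromBlocks_add, fromBlocks_multiply, toBlocks_fromBlocks₁₁, smul_zero,
        add_zero, smul_neg, mul_zero, smul_add, smul_smul]
      rw [← add_smul, ← mul_one_add, inv_mul_cancel₀ h1i, one_smul, one_mul]
    rcases he with rfl | rfl
    · have : sp.T.tgl Y.h2 Y.hi y = A := Units.ext (by rw [hAe, Pauli.coe_tgl, mul_one])
      exact this ▸ hA
    · have hprod : ((A * sp.T.tgl Y.h2 Y.hi y : GL (Fin 4) F) : 𝕂) =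
          ((1 + Y.i)⁻¹ * (1 + Y.i)⁻¹ * 2) • 1 := by
        have e2 : (1 - Y.i • sp.T.P y) * (1 + Y.i • sp.T.P y) = (2 : F) • (1 : 𝕂) := by
          rw [sub_mul, mul_add, mul_add, mul_one, one_mul, mul_one, smul_mul_assoc, mul_smul_comm, sp.T.sq,
            smul_smul, Y.hi]
          module
        rw [Units.val_mul, hAe, Pauli.coe_tgl, mul_neg_one, neg_smul, ← sub_eq_add_neg, smul_mul_assoc,
          mul_smul_comm, e2, smul_smul, smul_smul]
      have hne : (1 + Y.i)⁻¹ * (1 + Y.i)⁻¹ * 2 ≠ 0 :=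
        mul_ne_zero (mul_ne_zero (inv_ne_zero h1i) (inv_ne_zero h1i)) Y.h2
      have hmem : A * sp.T.tgl Y.h2 Y.hi y ∈ H := hsc ((mem_scalars_iff _).2 ⟨Units.mk0 _ hne, hprod⟩)
      exact (H.mul_mem_cancel_left hA).1 hmem
  have hNH : sp.T.norm ≤ H := norm_le_of_gens sp.T Y.h2 Y.hi hglH htglH hsc
  -- local condition in the projection
  have key : ∀ {x : GL ι F} {A B : GL (Fin 4) F}, sp.bd (A, B) = x → x ∈ M → ∀ {y y' : V4} {m : F},
      (A : 𝕂) * sp.T.P y = m • (sp.T.P y' * (A : 𝕂)) →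
      ∃ n : F, (x : 𝕄) * Y.S.P (r y) = n • (Y.S.P (r y') * (x : 𝕄)) := by
    rintro x A B rfl hx y y' m hm
    obtain ⟨e, he0, he⟩ := hrΦ y
    obtain ⟨e', he'0, he'⟩ := hrΦ y'
    have hxc : ((sp.bd (A, B) : GL ι F) : 𝕄) * Y.S.P c = Y.S.P c * ((sp.bd (A, B) : GL ι F) : 𝕄) := by
      apply sp.Φ_inj
      rw [map_mul, map_mul, sp.Φ_bd, sp.P_v, fromBlocks_multiply, fromBlocks_multiply]
      simp
    refine ⟨e * m * e'⁻¹, ho.maps_of_block sp hqc hx hxc (hrc y) (hrc y') ((hr0 y).trans (hr0 y').symm) ?_⟩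
    rw [Units.val_mul, Units.val_mul, map_mul, map_mul, ← map_inv, Prod.inv_mk, sp.Φ_bd, sp.Φ_bd,
      Pauli.coe_gl]
    obtain ⟨P₁, P₂, P₃, P₄, hP⟩ : ∃ a b c' d, sp.Φ (Y.S.P (r y)) = fromBlocks a b c' d :=
      ⟨_, _, _, _, (fromBlocks_toBlocks _).symm⟩
    rw [hP, toBlocks_fromBlocks₁₁] at he
    rw [hP, fromBlocks_multiply, fromBlocks_multiply, toBlocks_fromBlocks₁₁, he', he, smul_smul,
      mul_assoc, inv_mul_cancel₀ he'0, mul_one]
    simp only [zero_mul, mul_zero, add_zero, mul_smul_comm, smul_mul_assoc]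
    rw [hm, smul_mul_assoc, Units.mul_inv_cancel_right, smul_smul]
  have hHsl : H ⊓ specialLinear (Fin 4) F ≤ sp.T.norm := by
    obtain ⟨P, hP⟩ := SLFour.exists_conj_stdPauli sp.T.isPauli_grp (sp.T.card_center_grp Y.h2 Y.hi) Y.h2
    have hSL : ∀ x : GL (Fin 4) F, P * x * P⁻¹ ∈ specialLinear (Fin 4) F ↔ x ∈ specialLinear (Fin 4) F := by
      intro x
      rw [mem_specialLinear_iff, mem_specialLinear_iff, Units.val_mul, Units.val_mul, Matrix.det_units_conj]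
    have hnormP : ∀ x, P * x * P⁻¹ ∈ sp.T.norm ↔ x ∈ subgroupNormalizer (SLFour.stdPauli F) := by
      intro x
      rw [← sp.T.normalizer_grp, hP]
      show _ ∈ Subgroup.normalizer _ ↔ _
      rw [← Subgroup.map_equiv_normalizer_eq _ (MulAut.conj P), Subgroup.mem_map_equiv,
        MulAut.conj_symm_apply]
      group
      rfl
    set M4 := (H ⊓ specialLinear (Fin 4) F).comap (MulAut.conj P).toMonoidHom with hM4
    have hmem4 : ∀ x, x ∈ M4 ↔ P * x * P⁻¹ ∈ H ∧ x ∈ specialLinear (Fin 4) F := fun x => by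
      rw [hM4, Subgroup.mem_comap, Subgroup.mem_inf]
      show P * x * P⁻¹ ∈ H ∧ P * x * P⁻¹ ∈ _ ↔ _
      rw [hSL]
    have hNstd : ∀ x, x ∈ SLFour.Nstd Y.hi Y.h2 ↔
        x ∈ subgroupNormalizer (SLFour.stdPauli F) ∧ x ∈ specialLinear (Fin 4) F := fun x => by
      rw [SLFour.stdPauli_eq_Rstd Y.hi Y.h2, SLFour.mem_Nstd_iff_normalizer, mem_specialLinear_iff]
      rfl
    have heq : M4 = SLFour.Nstd Y.hi Y.h2 := by
      refine SLFour.eq_Nstd_of_local Y.hi Y.h2 (M := M4) ?_ (fun x hx => ((hmem4 x).1 hx).2) ?_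
      · intro x hx
        obtain ⟨h1, h2'⟩ := (hNstd x).1 hx
        exact (hmem4 x).2 ⟨hNH ((hnormP x).2 h1), h2'⟩
      intro a b hab x hx hk
      obtain ⟨m, -, hm⟩ := hk
      obtain ⟨hxH, hxSL⟩ := (hmem4 x).1 hx
      refine (hNstd x).2 ⟨(hnormP x).1 ?_, hxSL⟩
      set A := P * x * P⁻¹ with hA
      -- the product corresponds to a label
      have hpR : P * SLFour.pxu Y.hi a b * P⁻¹ ∈ sp.T.grp := by
        rw [hP, Subgroup.mem_map_equiv, MulAut.conj_symm_apply, SLFour.stdPauli_eq_Rstd Y.hi Y.h2]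
        have := SLFour.isStd_pxu Y.hi Y.h2 a b
        group
        exact this
      obtain ⟨d, y, -, hy⟩ := hpR
      have hd0 : d ≠ 0 := fun h => Units.ne_zero (P * SLFour.pxu Y.hi a b * P⁻¹) (by rw [hy, h, zero_smul])
      have hy0 : y ≠ 0 := by
        rintro rfl
        rw [sp.T.zero] at hy
        have hs : ((SLFour.pxu Y.hi a b : GL (Fin 4) F) : 𝕂) = d • 1 := by
          calc ((SLFour.pxu Y.hi a b : GL (Fin 4) F) : 𝕂)
              = ((P⁻¹ : GL (Fin 4) F) : 𝕂) * ((P * SLFour.pxu Y.hi a b * P⁻¹ : GL (Fin 4) F) : 𝕂) * (P : 𝕂) := by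
                rw [← Units.val_mul, ← Units.val_mul]; congr 1; group
            _ = d • 1 := by rw [hy, mul_smul_comm, mul_one, smul_mul_assoc, Units.inv_mul]
        obtain ⟨z, hza, hzb⟩ := (show ∀ p q : Fin 6, ∃ l, l ≠ p ∧ l ≠ q by decide) a b
        have h1 := SLFour.lam_pxu Y.hi Y.h2 hab a
        have h3 := SLFour.lam_pxu Y.hi Y.h2 hab z
        rw [SLFour.lam_scalar Y.hi Y.h2 hs] at h1 h3
        rw [if_pos (Or.inl rfl)] at h1
        rw [if_neg (by simp [hza, hzb])] at h3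
        have e1 := congrFun h1 a
        have e3 := congrFun h3 z
        simp [SLFour.e] at e1 e3
        exact Y.h2 (by linear_combination e1 - e3)
      have hAy : (A : 𝕂) * sp.T.P y = m • (sp.T.P y * (A : 𝕂)) := by
        have hd : sp.T.P y = d⁻¹ • ((P * SLFour.pxu Y.hi a b * P⁻¹ : GL (Fin 4) F) : 𝕂) := by
          rw [hy, smul_smul, inv_mul_cancel₀ hd0, one_smul]
        rw [hd, mul_smul_comm, smul_mul_assoc, smul_comm m, hA]
        simp only [Units.val_mul, SLFour.coe_pxu]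
        congr 1
        calc (P : 𝕂) * (x : 𝕂) * ((P⁻¹ : GL (Fin 4) F) : 𝕂) *
              ((P : 𝕂) * SLFour.px Y.i a b * ((P⁻¹ : GL (Fin 4) F) : 𝕂))
            = (P : 𝕂) * ((x : 𝕂) * SLFour.px Y.i a b) * ((P⁻¹ : GL (Fin 4) F) : 𝕂) := by
              simp only [mul_assoc, Units.inv_mul_cancel_left]
          _ = _ := by
              rw [hm]
              simp only [mul_assoc, mul_smul_comm, smul_mul_assoc, Units.inv_mul_cancel_left]
      obtain ⟨⟨A', B⟩, hAB, hA'⟩ := hxH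
      have hA' : A' = A := hA'
      obtain ⟨n, hn⟩ := key (A := A') rfl hAB (y := y) (y' := y) (m := m) (by rw [hA']; exact hAy)
      rw [← hA']
      have hnorm := hsing (r y) (hrne y hy0) (hr0 y) _ hAB n hn
      refine sp.T.mem_norm fun w => ?_
      obtain ⟨z, c', s', hc', -, ⟨-, hz⟩ | ⟨-, hz⟩⟩ := sp.P_cases (Y.S.sP (sp.bd (A', B)) (sp.f w))
      · refine ⟨z, Y.S.cP (sp.bd (A', B)) (sp.f w) * c', ?_⟩
        have e := congrArg sp.Φ (Y.S.act_spec hnorm (sp.f w))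
        rw [map_mul, sp.Φ_smul, map_mul, sp.Φ_bd, sp.P_f, hz] at e
        simp only [fromBlocks_smul, fromBlocks_multiply, fromBlocks_inj, smul_zero, zero_mul, mul_zero,
          add_zero, smul_mul_assoc] at e
        show ((A' : GL (Fin 4) F) : 𝕂) * sp.T.P w = _
        rw [e.1, smul_smul]
      · exfalso
        have e := congrArg sp.Φ (Y.S.act_spec hnorm (sp.f w))
        rw [map_mul, sp.Φ_smul, map_mul, sp.Φ_bd, sp.P_f, hz] at e
        simp only [fromBlocks_smul, fromBlocks_multiply, fromBlocks_inj, smul_zero, zero_mul, mul_zero,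
          add_zero] at e
        exact Units.ne_zero (A' * sp.T.gl w) (by rw [Units.val_mul]; exact e.1)
    intro x hx
    obtain ⟨x', rfl⟩ : ∃ x', P * x' * P⁻¹ = x := ⟨P⁻¹ * x * P, by group⟩
    obtain ⟨h1, h2'⟩ := Subgroup.mem_inf.1 hx
    have : x' ∈ M4 := (hmem4 x').2 ⟨h1, (hSL x').1 h2'⟩
    exact (hnormP x').2 ((hNstd x').1 (heq ▸ this)).1
  have hHn : H ≤ sp.T.norm := sp.T.le_norm_of_inf Y.h2 Y.hi hNH hHsl
  -- conclusion
  have main : ∀ g ∈ M, ((g : GL ι F) : 𝕄) * Y.S.P c = Y.S.P c * (g : 𝕄) → g ∈ Y.S.norm := by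
    intro g hg hgc
    obtain ⟨A, B, hAB⟩ := sp.exists_bd Y.h2 hgc
    have hA : A ∈ sp.T.norm := hHn (sp.mem_projGroup (hAB.symm ▸ hg))
    let y : V4 := Pi.single 0 1
    have hy : y ≠ 0 := by simp [y]
    obtain ⟨n, hn⟩ := key hAB hg (sp.T.act_spec hA y)
    exact ho.mem_norm_of_maps hg (hrne y hy) (fun g hg k => hsing _ (hrne y hy) (hr0 y) g hg k) hn
  rcases mul_self_eq_one_iff.1 (Sys.coeff_sq hgk) with rfl | rfl
  · exact main g hg (by rw [hgk, one_smul])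
  · refine (Y.S.norm.mul_mem_cancel_right (Y.S.gl_mem_norm u)).1 (main _ (mul_mem hg (ho.gl_mem u)) ?_)
    rw [Units.val_mul, Pauli.coe_gl, mul_assoc, Y.S.comm u c, Y.S.B_swap, hu, sgn_one, mul_smul_comm,
      ← mul_assoc, hgk, smul_mul_assoc, smul_smul, neg_mul_neg, one_mul, one_smul, mul_assoc]

include ho in
/-- The global statement from the labels of even value. -/
theorem le_norm_of_singular [Finite F]
    (hsing : ∀ a, a ≠ 0 → Y.q a = 0 → ∀ g ∈ M, ∀ k : F,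
      ((g : GL ι F) : 𝕄) * Y.S.P a = k • (Y.S.P a * ((g : GL ι F) : 𝕄)) → g ∈ Y.S.norm) :
    M ≤ Y.S.norm :=
  ho.le_norm_of_local fun a ha g hg k hk =>
    (PauliMax.two_cases (Y.q a)).elim (fun h => hsing a ha h g hg k hk)
      (fun h => ho.local_nonsingular hsing h hg hk)

end Over

end CfsgLib.Geometric.PauliQ
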