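import Cfsg.Agent.Lib.Geometric.PauliMax.OfData

/-!
A Pauli system with representatives in a given group.
-/

set_option autoImplicit false

namespace CfsgLib.Geometric.PauliQ

open Cfsg.Geo CfsgLib.SmallDim CfsgLib.PauliFour CfsgLib.Geometric.PauliMax

variable {F : Type*} [Field F] {ι : Type} [Fintype ι] [DecidableEq ι] {R : Subgroup (GL ι F)}

/-- A Pauli group containing a square root of minus one gives a system of Pauli matrices whose members lie in the group and exhaust it up to scalars. -/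
theorem exists_pauli_reps [Finite F] (m : ℕ) (hι : Fintype.card ι = 2 ^ m) (h2 : (2 : F) ≠ 0)
    (hR : IsPauli R) {i : F} (hi : i * i = -1) {ie : R} (hie : mt ie = i • 1) :
    ∃ S : Pauli (Fin (2 * m) → ZMod 2) ι F, (∀ v, ∃ g ∈ R, (g : Matrix ι ι F) = S.P v) ∧
      ∀ g ∈ R, ∃ (v : Fin (2 * m) → ZMod 2) (c : F), (g : Matrix ι ι F) = c • S.P v := by
  classical
  haveI : Nonempty ι := Fintype.card_pos_iff.1 (by rw [hι]; exact pow_pos (by norm_num) m)
  have hne : (Fintype.card ι : F) ≠ 0 := by
    rw [hι]; push_cast; exact pow_ne_zero m h2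
  have hi0 : i ≠ 0 := fun h => by simp [h] at hi
  haveI : Finite R := inferInstance
  letI : CommGroup (R ⧸ Subgroup.center R) :=
    { (inferInstance : Group (R ⧸ Subgroup.center R)) with
      mul_comm := by
        have hsq : ∀ a : R ⧸ Subgroup.center R, a * a = 1 := by
          intro a
          induction a using QuotientGroup.induction_on with
          | H x => exact mk_sq hR x
        intro a b
        have ha : a⁻¹ = a := inv_eq_of_mul_eq_one_right (hsq a)
        have hb : b⁻¹ = b := inv_eq_of_mul_eq_one_right (hsq b)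
        have hab : (a * b)⁻¹ = a * b := inv_eq_of_mul_eq_one_right (hsq _)
        rw [← hab, mul_inv_rev, ha, hb] }
  have h2q : ∀ x : Additive (R ⧸ Subgroup.center R), 2 • x = 0 := by
    intro x
    rw [two_nsmul]
    change Additive.ofMul (x.toMul * x.toMul) = Additive.ofMul 1
    congr 1
    generalize x.toMul = a
    induction a using QuotientGroup.induction_on with
    | H y => exact mk_sq hR y
  letI : Module (ZMod 2) (Additive (R ⧸ Subgroup.center R)) := AddCommGroup.zmodModule h2q
  have hrank : Module.finrank (ZMod 2) (Additive (R ⧸ Subgroup.center R)) = 2 * m := by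
    have h1 := Module.natCard_eq_pow_finrank (K := ZMod 2) (V := Additive (R ⧸ Subgroup.center R))
    have h3 : Nat.card (Additive (R ⧸ Subgroup.center R)) = 2 ^ (2 * m) := by
      rw [Nat.card_congr Additive.toMul, card_lines hR h2 hne, hι, ← pow_add, two_mul]
    rw [h3, Nat.card_zmod] at h1
    exact (Nat.pow_right_injective le_rfl h1).symm
  set φ := (Module.finBasisOfFinrankEq (ZMod 2) (Additive (R ⧸ Subgroup.center R)) hrank).equivFun
  let q : (Fin (2 * m) → ZMod 2) → R ⧸ Subgroup.center R := fun v => (φ.symm v).toMul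
  have hq0 : q 0 = 1 := by
    show (φ.symm 0).toMul = 1
    rw [map_zero]
    rfl
  have hqadd : ∀ v w, q (v + w) = q v * q w := fun v w => by simp [q, map_add]
  have hqinj : Function.Injective q := fun v w h =>
    φ.symm.injective (Additive.toMul.injective h)
  have hqsurj : Function.Surjective q := fun a =>
    ⟨φ (Additive.ofMul a), by simp [q]⟩
  have hrep : ∀ v, ∃ x : R, QuotientGroup.mk x = q v ∧ mt x * mt x = 1 ∧ (v = 0 → x = 1) := by
    intro v
    by_cases hv : v = 0
    · exact ⟨1, by rw [hv, hq0]; rfl, one_mul (1 : Matrix ι ι F), fun _ => rfl⟩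
    obtain ⟨x, hx, c, hc0, hc⟩ := exists_sq_one hR hi hie (q v).out
    refine ⟨x, ?_, hx, fun h => absurd h hv⟩
    rw [← QuotientGroup.out_eq' (q v), eq_comm, QuotientGroup.eq]
    refine mem_center_of_scalar hR (c := c) ?_
    show mt ((q v).out⁻¹ * x) = c • 1
    rw [mt_mul, hc, Matrix.mul_smul, ← mt_mul, inv_mul_cancel]
    rfl
  choose x hxq hxsq hx0 using hrep
  have hscal : ∀ {a b : R}, (QuotientGroup.mk a : R ⧸ Subgroup.center R) = QuotientGroup.mk b →
      ∃ c : F, c ≠ 0 ∧ mt b = c • mt a := by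
    intro a b h
    obtain ⟨c, hc0, hc⟩ := eq_smul_rep hR a
    obtain ⟨d, hd0, hd⟩ := eq_smul_rep hR b
    refine ⟨d / c, div_ne_zero hd0 hc0, ?_⟩
    show mt b = _
    rw [show mt b = _ from hd, show mt a = _ from hc, h, smul_smul, div_mul_cancel₀ _ hc0]
  let P : (Fin (2 * m) → ZMod 2) → Matrix ι ι F := fun v => mt (x v)
  have hPne : ∀ v w, P v * P w ≠ 0 := fun v w => mul_ne_zero_of_sq (hxsq v) (hxsq w)
  let β : (Fin (2 * m) → ZMod 2) → (Fin (2 * m) → ZMod 2) → ZMod 2 := fun v w =>
    if P v * P w = P w * P v then 0 else 1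
  have hβ : ∀ v w, P v * P w = sgn F (β v w) • (P w * P v) := by
    intro v w
    by_cases h : P v * P w = P w * P v
    · simp only [β, if_pos h, sgn_zero, one_smul]; exact h
    · simp only [β, if_neg h, sgn_one, neg_one_smul]
      exact (hR.comm _ (x v).2 _ (x w).2).resolve_left h
  have hadd : ∀ v w, ∃ c : F, P (v + w) = c • (P v * P w) := by
    intro v w
    obtain ⟨c, -, hc⟩ := hscal (a := x v * x w) (b := x (v + w))
      (by rw [QuotientGroup.mk_mul, hxq, hxq, hxq, hqadd])
    exact ⟨c, by simpa [P, mt_mul] using hc⟩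
  have hβl : ∀ u v w, β (u + v) w = β u w + β v w := by
    intro u v w
    obtain ⟨c, hc⟩ := hadd u v
    refine sgn_unique h2 (hPne w (u + v)) (hβ (u + v) w) ?_
    rw [sgn_add, hc, Matrix.smul_mul, mul_assoc, hβ v w, Matrix.mul_smul, ← mul_assoc, hβ u w,
      Matrix.smul_mul, mul_assoc, Matrix.mul_smul, smul_smul, smul_smul, smul_smul]
    congr 1
    ring
  have hβs : ∀ v w, β v w = β w v := by
    intro v w
    refine sgn_unique h2 (hPne w v) (hβ v w) ?_
    rcases sgn_cases (F := F) (β w v) with h | h <;> rw [h]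
    · rw [one_smul, hβ w v, h, one_smul]
    · rw [hβ w v, h, smul_smul, neg_mul_neg, one_mul, one_smul]
  let Bf : (Fin (2 * m) → ZMod 2) → ((Fin (2 * m) → ZMod 2) →ₗ[ZMod 2] ZMod 2) := fun v =>
    AddMonoidHom.toZModLinearMap 2
      (AddMonoidHom.mk' (β v) fun a b => by rw [hβs v, hβl, hβs a, hβs b])
  let B : (Fin (2 * m) → ZMod 2) →ₗ[ZMod 2] (Fin (2 * m) → ZMod 2) →ₗ[ZMod 2] ZMod 2 :=
    AddMonoidHom.toZModLinearMap 2
      (AddMonoidHom.mk' Bf fun a b => LinearMap.ext fun w => hβl a b w)
  have hB : ∀ v w, B v w = β v w := fun v w => rfl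
  have hli : LinearIndependent F P := by
    choose c hc0 hc using fun v => eq_smul_rep hR (x v)
    have h := ((linearIndependent_rep hR h2 hne).comp q hqinj).units_smul fun v => Units.mk0 (c v) (hc0 v)
    convert h using 1
    funext v
    show mt (x v) = _
    rw [show mt (x v) = _ from hc v, hxq]
    rfl
  refine ⟨⟨P, B, fun v => ?_, fun v hv => ?_, ?_, hxsq, fun v w => ?_, hadd, hli, ?_⟩, ?_⟩
  · rw [hB]; exact if_pos rfl
  · have hcen : x v ∈ Subgroup.center R := by
      refine Subgroup.mem_center_iff.2 fun y => Subtype.ext (Units.ext ?_)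
      obtain ⟨w, hw⟩ := hqsurj (QuotientGroup.mk y)
      obtain ⟨c, -, hc⟩ := hscal (a := x w) (b := y) (by rw [hxq, hw])
      show mt y * mt (x v) = mt (x v) * mt y
      have h0 : β v w = 0 := (hB v w).symm.trans (hv w)
      have := hβ v w
      rw [h0, sgn_zero, one_smul] at this
      rw [hc, Matrix.smul_mul, Matrix.mul_smul]
      exact congrArg _ this.symm
    apply hqinj
    rw [hq0, ← hxq, QuotientGroup.eq_one_iff]
    exact hcen
  · show mt (x 0) = 1
    rw [hx0 0 rfl]; rfl
  · rw [hB]; exact hβ v w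
  · rw [Fintype.card_fun, ZMod.card, Fintype.card_fin, hι, ← pow_mul, mul_comm]
  refine ⟨fun v => ⟨x v, (x v).2, rfl⟩, fun g hg => ?_⟩
  obtain ⟨w, hw⟩ := hqsurj (QuotientGroup.mk (⟨g, hg⟩ : R))
  obtain ⟨c, -, hc⟩ := hscal (a := x w) (b := ⟨g, hg⟩) (by rw [hxq, hw])
  exact ⟨w, c, hc⟩

end CfsgLib.Geometric.PauliQ
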